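import Cfsg.Agent.Lib.SNineThree.CentTauSixModel

/-!
Coxeter generators of a symmetric group of degree six containing a prescribed normalizer of a Sylow
three-subgroup; either class of the exchanging involution is allowed.
-/

set_option autoImplicit false
set_option maxRecDepth 100000
set_option maxHeartbeats 4000000

namespace CfsgLib.PSpThree

open Equiv
open CfsgLib.SNineThree.CentTau (P6 za zb sa Ta nf6 InN6 InE6)

/-- `(1 4)` in Coxeter generators. -/
def c14 {M : Type*} [Mul M] (s : Fin 5 → M) : M := s 2 * s 1 * s 0 * s 1 * s 2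

/-- `(2 5)` in Coxeter generators. -/
def c25 {M : Type*} [Mul M] (s : Fin 5 → M) : M := s 3 * s 2 * s 1 * s 2 * s 3

/-- `(3 6)` in Coxeter generators. -/
def c36 {M : Type*} [Mul M] (s : Fin 5 → M) : M := s 4 * s 3 * s 2 * s 3 * s 4

/-- The Coxeter relations. -/
structure Cox {M : Type*} [Monoid M] (s : Fin 5 → M) : Prop where
  sq : ∀ i, s i * s i = 1
  far : ∀ i j : Fin 5, i.val + 1 < j.val → s i * s j = s j * s i
  near : ∀ i j : Fin 5, i.val + 1 = j.val → (s i * s j) ^ 3 = 1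

/-- The relations of the frame inside the factor. -/
structure SixFrame {M : Type*} [Group M] (g h t u σ : M) : Prop where
  g3 : g ^ 3 = 1
  h3 : h ^ 3 = 1
  gh : g * h = h * g
  free : ∀ i j : Fin 3, g ^ i.val * h ^ j.val = 1 → i = 0 ∧ j = 0
  t2 : t * t = 1
  σ2 : σ * σ = 1
  σt : σ * t * σ = u
  σg : σ * g * σ = h
  tg : t * g * t = g⁻¹
  th : t * h = h * t
  tu : t * u = u * t
  tne : t ≠ u

/-- The completion for a choice of images. -/
def Good6 (G H A D T S : P6) : Prop :=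
  Cox ![A, A * G, S, D, D * H] ∧ T = c14 ![A, A * G, S, D, D * H] * c25 ![A, A * G, S, D, D * H] *
    c36 ![A, A * G, S, D, D * H]

instance (G H A D T S : P6) : Decidable (Good6 G H A D T S) :=
  decidable_of_iff (((∀ i, ![A, A * G, S, D, D * H] i * ![A, A * G, S, D, D * H] i = 1) ∧
    (∀ i j : Fin 5, i.val + 1 < j.val →
      ![A, A * G, S, D, D * H] i * ![A, A * G, S, D, D * H] j =
        ![A, A * G, S, D, D * H] j * ![A, A * G, S, D, D * H] i) ∧
    (∀ i j : Fin 5, i.val + 1 = j.val →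
      (![A, A * G, S, D, D * H] i * ![A, A * G, S, D, D * H] j) ^ 3 = 1)) ∧
    T = c14 ![A, A * G, S, D, D * H] * c25 ![A, A * G, S, D, D * H] *
      c36 ![A, A * G, S, D, D * H])
    ⟨fun ⟨⟨a, b, c⟩, d⟩ => ⟨⟨a, b, c⟩, d⟩, fun ⟨⟨a, b, c⟩, d⟩ => ⟨⟨a, b, c⟩, d⟩⟩

theorem complete_std : ∀ a b : Fin 3, ∀ T A : P6, (T = Ta ∧ A = sa) ∨ (T = sa ∧ A = Ta) →
    za ^ a.val * zb ^ b.val ≠ 1 →
    A * (za ^ a.val * zb ^ b.val) * A = (za ^ a.val * zb ^ b.val)⁻¹ →
    (T * A * T) * (za ^ a.val * zb ^ b.val) = za ^ a.val * zb ^ b.val * (T * A * T) →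
    ∃ S, Good6 (za ^ a.val * zb ^ b.val) (T * (za ^ a.val * zb ^ b.val) * T) A (T * A * T) T S := by
  have h : ∀ a b : Fin 3, ∀ p ∈ ([(Ta, sa), (sa, Ta)] : List (P6 × P6)),
      za ^ a.val * zb ^ b.val ≠ 1 →
      p.2 * (za ^ a.val * zb ^ b.val) * p.2 = (za ^ a.val * zb ^ b.val)⁻¹ →
      (p.1 * p.2 * p.1) * (za ^ a.val * zb ^ b.val) = za ^ a.val * zb ^ b.val * (p.1 * p.2 * p.1) →
      ∃ S, Good6 (za ^ a.val * zb ^ b.val) (p.1 * (za ^ a.val * zb ^ b.val) * p.1) p.2
        (p.1 * p.2 * p.1) p.1 S := by decide +kernel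
  intro a b T A hTA
  rcases hTA with ⟨rfl, rfl⟩ | ⟨rfl, rfl⟩
  · exact h a b (Ta, sa) (by simp)
  · exact h a b (sa, Ta) (by simp)

/-- A factor isomorphic to the symmetric group has Coxeter generators extending the frame. -/
theorem exists_cox {M : Type*} [Group M] (φ₀ : M ≃* P6) {g h t u σ : M} (F : SixFrame g h t u σ) :
    ∃ s : Fin 5 → M, Cox s ∧ s 0 = t ∧ s 1 = t * g ∧ s 3 = u ∧ s 4 = u * h ∧
      σ = c14 s * c25 s * c36 s := by
  haveI : Fact (Nat.Prime 3) := ⟨Nat.prime_three⟩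
  haveI : Finite M := Finite.of_equiv _ φ₀.symm.toEquiv
  let ι : Multiplicative (Fin 3 × Fin 3) →* M :=
    MonoidHom.mk' (fun v => g ^ v.toAdd.1.val * h ^ v.toAdd.2.val) fun v w => by
      have hmod : ∀ (x : M), x ^ 3 = 1 → ∀ i j : Fin 3, x ^ (i + j).val = x ^ i.val * x ^ j.val := by
        intro x hx i j
        rw [← pow_add, Fin.val_add, ← Nat.mod_add_div (i.val + j.val) 3, pow_add, pow_mul, hx, one_pow,
          mul_one, Nat.mod_mod_self, Nat.mod_add_div]
      simp only [toAdd_mul, Prod.fst_add, Prod.snd_add, hmod g F.g3, hmod h F.h3]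
      have hc : Commute (g ^ w.toAdd.1.val) (h ^ v.toAdd.2.val) := (Commute.pow_pow F.gh _ _)
      rw [mul_assoc, ← mul_assoc (g ^ w.toAdd.1.val), hc.eq]
      group
  have hι : Function.Injective ι := by
    rw [injective_iff_map_eq_one]
    intro v hv
    obtain ⟨h1, h2⟩ := F.free _ _ hv
    exact toAdd_eq_zero.1 (Prod.ext h1 h2)
  have hc' : Nat.card (ι.range.map φ₀.toMonoidHom) = 9 := by
    rw [Subgroup.card_map_of_injective φ₀.injective,
      Nat.card_congr (MonoidHom.ofInjective hι).toEquiv.symm, Nat.card_eq_fintype_card]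
    rfl
  have hidx : ∀ Q : Subgroup P6, Nat.card Q = 9 → ¬ 3 ∣ Q.index := fun Q hQ hd => by
    have h := Q.card_mul_index
    rw [hQ, Nat.card_perm, Nat.card_eq_fintype_card, Fintype.card_fin] at h
    simp [Nat.factorial] at h
    omega
  let S1' : Sylow 3 P6 := (IsPGroup.of_card (n := 2) hc').toSylow (hidx _ hc')
  let S2' : Sylow 3 P6 := (IsPGroup.of_card (n := 2) CfsgLib.SNineThree.CentTau.card_plane6).toSylow
    (hidx _ CfsgLib.SNineThree.CentTau.card_plane6)
  obtain ⟨k, hk⟩ := MulAction.exists_smul_eq P6 S1' S2'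
  have hk' : (ι.range.map φ₀.toMonoidHom).map (MulAut.conj k).toMonoidHom =
      CfsgLib.SNineThree.CentTau.plane6Hom.range := by
    have h := congrArg (fun S : Sylow 3 P6 => (S : Subgroup P6)) hk
    simp only [Sylow.coe_subgroup_smul] at h
    exact h
  let φ := φ₀.trans (MulAut.conj k)
  have hE : ∀ i j : ℕ, InE6 (φ (g ^ i * h ^ j)) := fun i j => by
    rw [← CfsgLib.SNineThree.CentTau.mem_plane6, ← hk', Subgroup.map_map]
    refine ⟨g ^ i * h ^ j, mul_mem (pow_mem ?_ i) (pow_mem ?_ j), rfl⟩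
    · exact ⟨Multiplicative.ofAdd (1, 0), by simp [ι]⟩
    · exact ⟨Multiplicative.ofAdd (0, 1), by simp [ι]⟩
  have hg6 : InE6 (φ g) := by simpa using hE 1 0
  have hh6 : InE6 (φ h) := by simpa using hE 0 1
  have hu2 : u * u = 1 := by
    rw [← F.σt, show σ * t * σ * (σ * t * σ) = σ * (t * (σ * σ) * t) * σ by group, F.σ2, mul_one, F.t2,
      mul_one, F.σ2]
  have hσh : σ * h * σ = g := by
    rw [← F.σg, show σ * (σ * g * σ) * σ = (σ * σ) * g * (σ * σ) by group, F.σ2, one_mul, mul_one]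
  have hspan : ∀ x : P6, InE6 x → ∃ i j : Fin 3, φ (g ^ i.val * h ^ j.val) = x := by
    intro x hx
    rw [← CfsgLib.SNineThree.CentTau.mem_plane6, ← hk', Subgroup.map_map] at hx
    obtain ⟨_, ⟨v, rfl⟩, he⟩ := hx
    exact ⟨_, _, he⟩
  have hN : ∀ n : M, InE6 (φ (n * g * n⁻¹)) → InE6 (φ (n * h * n⁻¹)) → InN6 (φ n) := by
    intro n h1 h2
    have hgen : ∀ x : P6, InE6 x → InE6 (φ n * x * (φ n)⁻¹) := by
      intro x hx
      obtain ⟨i, j, rfl⟩ := hspan x hx
      have e : φ n * φ (g ^ i.val * h ^ j.val) * (φ n)⁻¹ =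
          φ (n * g * n⁻¹) ^ i.val * φ (n * h * n⁻¹) ^ j.val := by
        simp only [← map_pow, ← map_mul, ← map_inv, conj_pow]
        congr 1
        group
      rw [e]
      rw [← CfsgLib.SNineThree.CentTau.mem_plane6] at h1 h2 ⊢
      exact mul_mem (pow_mem h1 _) (pow_mem h2 _)
    exact CfsgLib.SNineThree.CentTau.inN6_of_conj _
      (hgen za (by simpa using CfsgLib.SNineThree.CentTau.plane6.2.2 1 0))
      (hgen zb (by simpa using CfsgLib.SNineThree.CentTau.plane6.2.2 0 1))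
  have ht' : t⁻¹ = t := inv_eq_of_mul_eq_one_right F.t2
  have hs' : σ⁻¹ = σ := inv_eq_of_mul_eq_one_right F.σ2
  have hTN : InN6 (φ σ) := hN σ (by rw [hs', F.σg]; exact hh6) (by rw [hs', hσh]; exact hg6)
  have hAN : InN6 (φ t) := hN t (by
      rw [ht', F.tg]
      have h2 : g⁻¹ = g ^ 2 * h ^ 0 := by
        rw [pow_zero, mul_one]; exact inv_eq_of_mul_eq_one_right (by rw [← pow_succ']; exact F.g3)
      rw [h2]; exact hE 2 0)
    (by rw [F.th, mul_inv_cancel_right]; exact hh6)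
  obtain ⟨a, b, c, d, e, hT⟩ := CfsgLib.SNineThree.CentTau.inN6_form _ hTN
  obtain ⟨a', b', c', d', e', hA⟩ := CfsgLib.SNineThree.CentTau.inN6_form _ hAN
  have hfr : CfsgLib.SNineThree.CentTau.Frame (φ σ) (φ t) := by
    refine ⟨by rw [← map_mul, F.σ2, map_one], by rw [← map_mul, F.t2, map_one], ?_, ?_⟩
    · intro hh
      rw [← map_mul, ← map_pow, map_eq_one_iff _ φ.injective, pow_two] at hh
      refine F.tne ?_
      calc t = t * σ * t * σ * (σ * t * σ) := by
            rw [show t * σ * t * σ * (σ * t * σ) = t * σ * (t * (σ * σ) * t) * σ by group, F.σ2, mul_one,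
              F.t2, mul_one, mul_assoc, F.σ2, mul_one]
        _ = u := by rw [show t * σ * t * σ = t * σ * (t * σ) by group, hh, one_mul, F.σt]
    · rw [← map_mul, ← map_pow, show (t * σ) ^ 4 = (t * (σ * t * σ)) * (t * (σ * t * σ)) by
        rw [pow_succ, pow_succ, pow_two]; group, F.σt,
        show t * u * (t * u) = t * (u * t) * u by group, ← F.tu, ← mul_assoc, F.t2, one_mul, hu2, map_one]
  rw [← hT, ← hA] at hfr
  obtain ⟨i, j, k', l, m, hcase⟩ :=
    CfsgLib.SNineThree.CentTau.frame_cases a b c d e a' b' c' d' e' hfr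
  rw [hT, hA] at hcase
  let n := nf6 i j k' l m
  let ψ := φ.trans (MulAut.conj n)
  have hg' : InE6 (ψ g) := CfsgLib.SNineThree.CentTau.inE6_conj
    (CfsgLib.SNineThree.CentTau.nf6_mem i j k' l m) hg6
  obtain ⟨p, r, hpr⟩ := CfsgLib.SNineThree.CentTau.inE6_form _ hg'
  have hTψ : ψ σ * ψ t * ψ σ = ψ u := by rw [← map_mul, ← map_mul, F.σt]
  have hHψ : ψ σ * ψ g * ψ σ = ψ h := by rw [← map_mul, ← map_mul, F.σg]
  obtain ⟨S, hS, hTS⟩ := complete_std p r (ψ σ) (ψ t) hcase (by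
      rw [hpr, Ne, map_eq_one_iff _ ψ.injective]
      intro e1
      have := (F.free 1 0 (by simp [e1])).1
      exact absurd this (by decide))
    (by rw [hpr, ← map_mul, ← map_mul, F.tg, map_inv])
    (by
      rw [hpr, hTψ, ← map_mul, ← map_mul]
      congr 1
      rw [← F.σt, ← hσh]
      calc σ * t * σ * (σ * h * σ) = σ * (t * (σ * σ) * h) * σ := by group
        _ = σ * (h * (σ * σ) * t) * σ := by rw [F.σ2, mul_one, mul_one, F.th]
        _ = _ := by group)
  rw [hpr, hTψ, hHψ] at hS hTS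
  refine ⟨![t, t * g, ψ.symm S, u, u * h], ?_, rfl, rfl, rfl, rfl, ?_⟩
  · have hv : ∀ q : Fin 5, ψ (![t, t * g, ψ.symm S, u, u * h] q) =
        ![ψ t, ψ t * ψ g, S, ψ u, ψ u * ψ h] q := by
      intro q; fin_cases q <;> simp
    exact ⟨fun q => ψ.injective (by rw [map_mul, map_one, hv, hS.sq]),
      fun q q' hq => ψ.injective (by rw [map_mul, map_mul, hv, hv, hS.far q q' hq]),
      fun q q' hq => ψ.injective (by rw [map_pow, map_mul, map_one, hv, hv, hS.near q q' hq])⟩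
  · refine ψ.injective (hTS.trans ?_)
    simp [c14, c25, c36, map_mul]

end CfsgLib.PSpThree
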